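import Mathlib

set_option autoImplicit false

/-!
Normal forms for the elements of a two-generator group which is metacyclic with an involution on
top, or abelian.
-/

namespace Cfsg.Agent.Helper9.SchurForms

theorem conj_zpow_eq {G : Type*} [Group G] {A B : G} {r : ℤ} (hBA : B * A * B⁻¹ = A ^ r)
    (l : ℤ) : B * A ^ l * B⁻¹ = A ^ (r * l) := by
  rw [← conj_zpow, hBA, ← zpow_mul]

/-- the elements of `⟨A, B⟩` when `B` is an involution with `B A B⁻¹ = A ^ r`. -/
theorem meta_form {G : Type*} [Group G] (A B : G) (r : ℤ) (hBA : B * A * B⁻¹ = A ^ r)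
    (hB2 : B * B = 1) (u : G) (hu : u ∈ Subgroup.closure ({A, B} : Set G)) :
    ∃ k : ℤ, u = A ^ k ∨ u = A ^ k * B := by
  have hBinv : B⁻¹ = B := inv_eq_of_mul_eq_one_left hB2
  have hmove : ∀ l : ℤ, B * A ^ l = A ^ (r * l) * B := by
    intro l
    have := conj_zpow_eq hBA l
    rw [← this, inv_mul_cancel_right]
  induction hu using Subgroup.closure_induction with
  | mem x hx =>
    rcases hx with rfl | rfl
    · exact ⟨1, Or.inl (zpow_one _).symm⟩
    · exact ⟨0, Or.inr (by rw [zpow_zero, one_mul])⟩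
  | one => exact ⟨0, Or.inl (zpow_zero _).symm⟩
  | mul x y _ _ hx hy =>
    obtain ⟨k, hk | hk⟩ := hx <;> obtain ⟨l, hl | hl⟩ := hy
    · exact ⟨k + l, Or.inl (by rw [hk, hl, zpow_add])⟩
    · exact ⟨k + l, Or.inr (by rw [hk, hl, zpow_add, mul_assoc])⟩
    · refine ⟨k + r * l, Or.inr ?_⟩
      rw [hk, hl, mul_assoc, hmove, zpow_add, mul_assoc]
    · refine ⟨k + r * l, Or.inl ?_⟩
      rw [hk, hl, mul_assoc, ← mul_assoc B, hmove, mul_assoc, hB2, mul_one, zpow_add]
  | inv x _ hx =>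
    obtain ⟨k, hk | hk⟩ := hx
    · exact ⟨-k, Or.inl (by rw [hk, zpow_neg])⟩
    · refine ⟨r * (-k), Or.inr ?_⟩
      rw [hk, mul_inv_rev, hBinv, ← zpow_neg, hmove]

/-- the elements of `⟨A, B⟩` when `A` and `B` commute. -/
theorem abelian_form {G : Type*} [Group G] (A B : G) (hAB : A * B = B * A) (u : G)
    (hu : u ∈ Subgroup.closure ({A, B} : Set G)) : ∃ i j : ℤ, u = A ^ i * B ^ j := by
  have hc : Commute A B := hAB
  induction hu using Subgroup.closure_induction with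
  | mem x hx =>
    rcases hx with rfl | rfl
    · exact ⟨1, 0, by rw [zpow_one, zpow_zero, mul_one]⟩
    · exact ⟨0, 1, by rw [zpow_one, zpow_zero, one_mul]⟩
  | one => exact ⟨0, 0, by rw [zpow_zero, zpow_zero, mul_one]⟩
  | mul x y _ _ hx hy =>
    obtain ⟨i, j, rfl⟩ := hx
    obtain ⟨i', j', rfl⟩ := hy
    refine ⟨i + i', j + j', ?_⟩
    have h1 : Commute (B ^ j) (A ^ i') := (hc.zpow_zpow i' j).symm
    rw [zpow_add, zpow_add, mul_assoc, ← mul_assoc (B ^ j), h1.eq, mul_assoc, mul_assoc]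
  | inv x _ hx =>
    obtain ⟨i, j, rfl⟩ := hx
    refine ⟨-i, -j, ?_⟩
    have h1 : Commute (B ^ j) (A ^ i) := (hc.zpow_zpow i j).symm
    rw [mul_inv_rev, zpow_neg, zpow_neg, ← (h1.inv_inv).eq]

end Cfsg.Agent.Helper9.SchurForms
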