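import Mathlib
import Cfsg.Prelude.Def_Sporadic_a
import Cfsg.Agent.Helper9.Out.M11Data
import Cfsg.Agent.Helper9.Golay.SimpleCert

set_option autoImplicit false

/-!
Data for the Schur multiplier of the Mathieu group on 11 points: generators `A`, `B` of a Sylow
2-subgroup (semidihedral of order 16), generators `A'`, `B'` of a Sylow 3-subgroup and an
involution `T` centralizing `A'` and inverting `B'`, as words in the generators `a`, `b`.
-/

namespace Cfsg.Agent.Helper9.SchurM11

open Cfsg Cfsg.Agent.Helper9.Golay Cfsg.Agent.Helper9.OutM11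

/-- the program computing the elements from `a` and `b`. -/
def sProg : List (ℕ × ℕ) := [(0, 0), (0, 2), (0, 3), (0, 4), (2, 2), (6, 6), (2, 7), (5, 5), (9, 9), (10, 10), (9, 11), (1, 0), (8, 13), (1, 14), (1, 4), (12, 16), (17, 15), (14, 18), (17, 17), (17, 20), (20, 20), (21, 22), (14, 17), (23, 24), (25, 1), (1, 26), (20, 1), (25, 28), (20, 25), (25, 30), (31, 27), (29, 29), (29, 33), (19, 19), (19, 35), (35, 35), (36, 37), (17, 18), (38, 39), (34, 40), (1, 27), (20, 32), (14, 41), (17, 27), (0, 45)]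

/-- the tables computed by the program. -/
def sTabs : List (List ℕ) := runSLP sProg [o11AT, o11BT]

/-- the table of `A`. -/
def tA : List ℕ := [0, 1, 13, 18, 3, 17, 8, 20, 6, 16, 21, 5, 2, 9, 23, 7, 4, 19, 12, 11, 10, 22, 14, 15]

/-- the table of `B`. -/
def tB : List ℕ := [0, 1, 2, 12, 4, 19, 8, 10, 6, 18, 7, 11, 3, 16, 20, 15, 13, 17, 9, 5, 14, 21, 23, 22]

/-- the table of `A'`. -/
def tC : List ℕ := [0, 1, 2, 4, 12, 15, 16, 7, 9, 13, 10, 22, 3, 8, 21, 19, 18, 17, 6, 5, 14, 20, 23, 11]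

/-- the table of `B'`. -/
def tD : List ℕ := [0, 1, 2, 18, 6, 15, 8, 10, 4, 12, 17, 23, 16, 3, 14, 19, 9, 7, 13, 5, 20, 21, 11, 22]

/-- the table of `T`. -/
def tT : List ℕ := [0, 2, 1, 3, 4, 23, 8, 10, 6, 16, 7, 15, 12, 18, 14, 11, 9, 17, 13, 22, 20, 21, 19, 5]

theorem s_elts : sTabs.getD 44 idT = tA ∧ sTabs.getD 25 idT = tB ∧ sTabs.getD 42 idT = tC ∧
    sTabs.getD 43 idT = tD ∧ sTabs.getD 46 idT = tT := by decide +kernel

theorem s_two : powT tA 8 = idT ∧ powT tA 4 ≠ idT ∧ mulT tB tB = idT ∧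
    mulT tB tA = mulT (powT tA 3) tB := by decide +kernel

/-- the tables of the elements of the Sylow 2-subgroup. -/
def l16 : List (List ℕ) :=
  (List.range 16).map (fun k => mulT (powT tA (k % 8)) (powT tB (k / 8)))

theorem l16_nodup : l16.Nodup := by decide +kernel

theorem s_three : powT tC 3 = idT ∧ powT tD 3 = idT ∧ mulT tC tD = mulT tD tC ∧
    mulT tT tC = mulT tC tT ∧ mulT tT tD = mulT (powT tD 2) tT := by decide +kernel

/-- the tables of the elements of the Sylow 3-subgroup. -/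
def l9 : List (List ℕ) :=
  (List.range 9).map (fun k => mulT (powT tC (k / 3)) (powT tD (k % 3)))

theorem l9_nodup : l9.Nodup := by decide +kernel

end Cfsg.Agent.Helper9.SchurM11
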