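import Mathlib
import Cfsg.Prelude.Def_Sporadic_a
import Cfsg.Prelude.Def_KGroupFacts
import Cfsg.Agent.Helper9.Out.M11Out
import Cfsg.Agent.Helper9.Schur.M11Data
import Cfsg.Agent.Helper9.Schur.Forms
import Cfsg.Agent.Helper3.StemG
import Cfsg.Agent.Helper3.Schur

set_option autoImplicit false

/-!
The Schur multiplier of the Mathieu group on 11 points is trivial: every prime has a good subgroup
of index prime to it (cyclic Sylow subgroups for the primes other than 2 and 3, the semidihedral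
Sylow 2-subgroup, and the Sylow 3-subgroup with an involution centralizing one generator and
inverting the other).
-/

namespace Cfsg.Agent.Helper9.SchurM11

open Cfsg Cfsg.Agent.Helper9.Golay Cfsg.Agent.Helper9.OutM11 Cfsg.Agent.Helper9.OutM24
  Cfsg.Agent.Helper9.SchurForms

theorem goodT_s : GoodT Spor.M11 sTabs := by
  apply goodT_runSLP
  intro t ht
  simp only [List.mem_cons, List.not_mem_nil, or_false] at ht
  rcases ht with rfl | rfl
  · exact ⟨a11P, a11P_mem, a11P_tbl⟩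
  · exact ⟨b11P, b11P_mem, b11P_tbl⟩

theorem exists_elt (i : ℕ) (t : List ℕ) (h : sTabs.getD i idT = t) :
    ∃ x : ↥Spor.M11, IsTbl (x : Equiv.Perm GolayPt) t := by
  obtain ⟨σ, hσ, hσt⟩ := goodT_s.getD i
  rw [h] at hσt
  exact ⟨⟨σ, hσ⟩, hσt⟩

/-- the element `A` of order 8. -/
noncomputable def eA : ↥Spor.M11 := Classical.choose (exists_elt _ tA s_elts.1)

theorem eA_tbl : IsTbl (eA : Equiv.Perm GolayPt) tA := Classical.choose_spec (exists_elt _ tA s_elts.1)

/-- the involution `B`. -/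
noncomputable def eB : ↥Spor.M11 := Classical.choose (exists_elt _ tB s_elts.2.1)

theorem eB_tbl : IsTbl (eB : Equiv.Perm GolayPt) tB :=
  Classical.choose_spec (exists_elt _ tB s_elts.2.1)

/-- the element `A'` of order 3. -/
noncomputable def eC : ↥Spor.M11 := Classical.choose (exists_elt _ tC s_elts.2.2.1)

theorem eC_tbl : IsTbl (eC : Equiv.Perm GolayPt) tC :=
  Classical.choose_spec (exists_elt _ tC s_elts.2.2.1)

/-- the element `B'` of order 3. -/
noncomputable def eD : ↥Spor.M11 := Classical.choose (exists_elt _ tD s_elts.2.2.2.1)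

theorem eD_tbl : IsTbl (eD : Equiv.Perm GolayPt) tD :=
  Classical.choose_spec (exists_elt _ tD s_elts.2.2.2.1)

/-- the involution `T`. -/
noncomputable def eT : ↥Spor.M11 := Classical.choose (exists_elt _ tT s_elts.2.2.2.2)

theorem eT_tbl : IsTbl (eT : Equiv.Perm GolayPt) tT :=
  Classical.choose_spec (exists_elt _ tT s_elts.2.2.2.2)

theorem eq_of_tbl {x y : ↥Spor.M11} {t : List ℕ} (hx : IsTbl (x : Equiv.Perm GolayPt) t)
    (hy : IsTbl (y : Equiv.Perm GolayPt) t) : x = y := Subtype.ext (hx.eq_of_eq hy)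

theorem tbl_mul {x y : ↥Spor.M11} {s t : List ℕ} (hx : IsTbl (x : Equiv.Perm GolayPt) s)
    (hy : IsTbl (y : Equiv.Perm GolayPt) t) :
    IsTbl ((x * y : ↥Spor.M11) : Equiv.Perm GolayPt) (mulT s t) := hx.mul hy

theorem tbl_pow {x : ↥Spor.M11} {s : List ℕ} (hx : IsTbl (x : Equiv.Perm GolayPt) s) (n : ℕ) :
    IsTbl ((x ^ n : ↥Spor.M11) : Equiv.Perm GolayPt) (powT s n) := hx.pow n

theorem tbl_one : IsTbl ((1 : ↥Spor.M11) : Equiv.Perm GolayPt) idT := isTbl_one

theorem tbl_unique' {x : ↥Spor.M11} {s t : List ℕ} (hs : IsTbl (x : Equiv.Perm GolayPt) s)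
    (ht : IsTbl (x : Equiv.Perm GolayPt) t) : s = t :=
  (tbl_eq_tblOf hs).trans (tbl_eq_tblOf ht).symm

/-! ### the Sylow 2-subgroup -/

theorem eA_pow8 : eA ^ 8 = 1 := by
  apply eq_of_tbl (tbl_pow eA_tbl 8)
  rw [s_two.1]
  exact tbl_one

theorem eA_pow4 : eA ^ 4 ≠ 1 := by
  intro h
  have h1 := tbl_pow eA_tbl 4
  rw [h] at h1
  exact s_two.2.1 (tbl_unique' h1 tbl_one)

theorem order_eA : orderOf eA = 8 := by
  have := orderOf_eq_prime_pow (x := eA) (p := 2) (n := 2) (by norm_num; exact eA_pow4)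
    (by norm_num; exact eA_pow8)
  simpa using this

theorem eB_sq : eB * eB = 1 := by
  apply eq_of_tbl (tbl_mul eB_tbl eB_tbl)
  rw [s_two.2.2.1]
  exact tbl_one

theorem eB_conj : eB * eA * eB⁻¹ = eA ^ (3 : ℤ) := by
  rw [mul_inv_eq_iff_eq_mul]
  have : eA ^ (3 : ℤ) = eA ^ 3 := by norm_cast
  rw [this]
  apply eq_of_tbl (tbl_mul eB_tbl eA_tbl)
  rw [s_two.2.2.2]
  exact tbl_mul (tbl_pow eA_tbl 3) eB_tbl

/-- the Sylow 2-subgroup. -/
noncomputable def U2 : Subgroup ↥Spor.M11 := Subgroup.closure {eA, eB}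

theorem eA_mem : eA ∈ U2 := Subgroup.subset_closure (by simp)

theorem eB_mem : eB ∈ U2 := Subgroup.subset_closure (by simp)

theorem card_of_tables {n : ℕ} (U : Subgroup ↥Spor.M11) (f : Fin n → ↥Spor.M11)
    (ts : List (List ℕ)) (hlen : ts.length = n) (hnd : ts.Nodup)
    (htab : ∀ i : Fin n, IsTbl ((f i : ↥Spor.M11) : Equiv.Perm GolayPt) (ts.getD i.val idT))
    (hsub : ∀ i, f i ∈ U) (hcover : ∀ u ∈ U, ∃ i, u = f i) : Nat.card U = n := by
  have hbij : Function.Bijective (fun i : Fin n => (⟨f i, hsub i⟩ : U)) := by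
    constructor
    · intro i j hij
      have h1 : f i = f j := congrArg Subtype.val hij
      have h2 := htab i
      rw [h1] at h2
      have h3 := tbl_unique' h2 (htab j)
      have hi : i.val < ts.length := by rw [hlen]; exact i.isLt
      have hj : j.val < ts.length := by rw [hlen]; exact j.isLt
      rw [List.getD_eq_getElem _ _ hi, List.getD_eq_getElem _ _ hj] at h3
      exact Fin.ext ((List.Nodup.getElem_inj_iff hnd).1 h3)
    · rintro ⟨u, hu⟩
      obtain ⟨i, hi⟩ := hcover u hu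
      exact ⟨i, Subtype.ext hi.symm⟩
  rw [← Nat.card_congr (Equiv.ofBijective _ hbij), Nat.card_eq_fintype_card, Fintype.card_fin]

/-- the elements of the Sylow 2-subgroup. -/
noncomputable def f16 (i : Fin 16) : ↥Spor.M11 := eA ^ (i.val % 8) * eB ^ (i.val / 8)

theorem l16_length : l16.length = 16 := by simp [l16]

theorem l16_getD (i : Fin 16) :
    l16.getD i.val idT = mulT (powT tA (i.val % 8)) (powT tB (i.val / 8)) := by
  unfold l16
  rw [List.getD_eq_getElem _ _ (by simp)]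
  simp

theorem zpow_eA (k : ℤ) : eA ^ k = eA ^ ((k % 8).toNat) := by
  have h8 : eA ^ (8 : ℤ) = 1 := by
    have := eA_pow8
    exact_mod_cast this
  rw [zpow_eq_zpow_emod k h8]
  have hnn : 0 ≤ k % 8 := Int.emod_nonneg _ (by norm_num)
  conv_lhs => rw [← Int.toNat_of_nonneg hnn]
  exact zpow_natCast _ _

theorem card_U2 : Nat.card U2 = 16 := by
  apply card_of_tables U2 f16 l16 l16_length l16_nodup
  · intro i
    rw [l16_getD]
    exact tbl_mul (tbl_pow eA_tbl _) (tbl_pow eB_tbl _)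
  · intro i
    exact U2.mul_mem (U2.pow_mem eA_mem _) (U2.pow_mem eB_mem _)
  · intro u hu
    obtain ⟨k, hk | hk⟩ := meta_form eA eB 3 eB_conj eB_sq u hu
    · have hlt : (k % 8).toNat < 8 := by
        have h1 : k % 8 < 8 := Int.emod_lt_of_pos _ (by norm_num)
        have h2 : 0 ≤ k % 8 := Int.emod_nonneg _ (by norm_num)
        omega
      refine ⟨⟨(k % 8).toNat, by omega⟩, ?_⟩
      unfold f16
      simp only
      rw [Nat.mod_eq_of_lt hlt, Nat.div_eq_of_lt hlt, pow_zero, mul_one, hk, zpow_eA]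
    · have hlt : (k % 8).toNat < 8 := by
        have h1 : k % 8 < 8 := Int.emod_lt_of_pos _ (by norm_num)
        have h2 : 0 ≤ k % 8 := Int.emod_nonneg _ (by norm_num)
        omega
      refine ⟨⟨8 + (k % 8).toNat, by omega⟩, ?_⟩
      unfold f16
      simp only
      have e1 : (8 + (k % 8).toNat) % 8 = (k % 8).toNat := by omega
      have e2 : (8 + (k % 8).toNat) / 8 = 1 := by omega
      rw [e1, e2, pow_one, hk, zpow_eA]

theorem index_U2 : ¬ 2 ∣ U2.index := by
  have h := Subgroup.index_mul_card U2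
  rw [card_U2, card_M11] at h
  have : U2.index = 495 := by omega
  rw [this]
  decide

/-! ### the Sylow 3-subgroup -/

theorem eC_pow3 : eC ^ 3 = 1 := by
  apply eq_of_tbl (tbl_pow eC_tbl 3)
  rw [s_three.1]
  exact tbl_one

theorem eD_pow3 : eD ^ 3 = 1 := by
  apply eq_of_tbl (tbl_pow eD_tbl 3)
  rw [s_three.2.1]
  exact tbl_one

theorem eC_eD : eC * eD = eD * eC := by
  apply eq_of_tbl (tbl_mul eC_tbl eD_tbl)
  rw [s_three.2.2.1]
  exact tbl_mul eD_tbl eC_tbl

theorem eT_eC : eT * eC * eT⁻¹ = eC := by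
  rw [mul_inv_eq_iff_eq_mul]
  apply eq_of_tbl (tbl_mul eT_tbl eC_tbl)
  rw [s_three.2.2.2.1]
  exact tbl_mul eC_tbl eT_tbl

theorem eT_eD : eT * eD * eT⁻¹ = eD⁻¹ := by
  rw [mul_inv_eq_iff_eq_mul]
  have hinv : eD⁻¹ = eD ^ 2 := by
    rw [inv_eq_iff_mul_eq_one, ← pow_succ']
    exact eD_pow3
  rw [hinv]
  apply eq_of_tbl (tbl_mul eT_tbl eD_tbl)
  rw [s_three.2.2.2.2]
  exact tbl_mul (tbl_pow eD_tbl 2) eT_tbl

/-- the Sylow 3-subgroup. -/
noncomputable def U3 : Subgroup ↥Spor.M11 := Subgroup.closure {eC, eD}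

theorem eC_mem : eC ∈ U3 := Subgroup.subset_closure (by simp)

theorem eD_mem : eD ∈ U3 := Subgroup.subset_closure (by simp)

/-- the elements of the Sylow 3-subgroup. -/
noncomputable def f9 (i : Fin 9) : ↥Spor.M11 := eC ^ (i.val / 3) * eD ^ (i.val % 3)

theorem l9_length : l9.length = 9 := by simp [l9]

theorem l9_getD (i : Fin 9) :
    l9.getD i.val idT = mulT (powT tC (i.val / 3)) (powT tD (i.val % 3)) := by
  unfold l9
  rw [List.getD_eq_getElem _ _ (by simp)]
  simp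

theorem zpow_mod3 {x : ↥Spor.M11} (hx : x ^ 3 = 1) (k : ℤ) : x ^ k = x ^ ((k % 3).toNat) := by
  have h3 : x ^ (3 : ℤ) = 1 := by exact_mod_cast hx
  rw [zpow_eq_zpow_emod k h3]
  have hnn : 0 ≤ k % 3 := Int.emod_nonneg _ (by norm_num)
  conv_lhs => rw [← Int.toNat_of_nonneg hnn]
  exact zpow_natCast _ _

theorem card_U3 : Nat.card U3 = 9 := by
  apply card_of_tables U3 f9 l9 l9_length l9_nodup
  · intro i
    rw [l9_getD]
    exact tbl_mul (tbl_pow eC_tbl _) (tbl_pow eD_tbl _)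
  · intro i
    exact U3.mul_mem (U3.pow_mem eC_mem _) (U3.pow_mem eD_mem _)
  · intro u hu
    obtain ⟨i, j, hij⟩ := abelian_form eC eD eC_eD u hu
    have hi : (i % 3).toNat < 3 := by
      have h1 : i % 3 < 3 := Int.emod_lt_of_pos _ (by norm_num)
      have h2 : 0 ≤ i % 3 := Int.emod_nonneg _ (by norm_num)
      omega
    have hj : (j % 3).toNat < 3 := by
      have h1 : j % 3 < 3 := Int.emod_lt_of_pos _ (by norm_num)
      have h2 : 0 ≤ j % 3 := Int.emod_nonneg _ (by norm_num)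
      omega
    refine ⟨⟨3 * (i % 3).toNat + (j % 3).toNat, by omega⟩, ?_⟩
    unfold f9
    simp only
    have e1 : (3 * (i % 3).toNat + (j % 3).toNat) / 3 = (i % 3).toNat := by omega
    have e2 : (3 * (i % 3).toNat + (j % 3).toNat) % 3 = (j % 3).toNat := by omega
    rw [e1, e2, hij, zpow_mod3 eC_pow3, zpow_mod3 eD_pow3]

theorem index_U3 : ¬ 3 ∣ U3.index := by
  have h := Subgroup.index_mul_card U3
  rw [card_U3, card_M11] at h
  have : U3.index = 880 := by omega
  rw [this]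
  decide

/-! ### the multiplier -/

theorem not_sq_dvd {s : ℕ} (hs : s.Prime) (h2 : s ≠ 2) (h3 : s ≠ 3) : ¬ s ^ 2 ∣ 7920 := by
  intro h
  have hdvd : s ∣ 7920 := dvd_trans (dvd_pow_self s (by norm_num)) h
  have hle : s ≤ 7920 := Nat.le_of_dvd (by norm_num) hdvd
  have h1 : (7920 : ℕ) = 2 ^ 4 * (3 ^ 2 * (5 * 11)) := by norm_num
  rw [h1] at hdvd
  rcases (Nat.Prime.dvd_mul hs).1 hdvd with h | h
  · exact h2 ((Nat.prime_dvd_prime_iff_eq hs Nat.prime_two).1 (hs.dvd_of_dvd_pow h))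
  rcases (Nat.Prime.dvd_mul hs).1 h with h | h
  · exact h3 ((Nat.prime_dvd_prime_iff_eq hs Nat.prime_three).1 (hs.dvd_of_dvd_pow h))
  rcases (Nat.Prime.dvd_mul hs).1 h with h | h
  · have := (Nat.prime_dvd_prime_iff_eq hs (by norm_num : Nat.Prime 5)).1 h
    subst this
    revert ‹(5 : ℕ) ^ 2 ∣ 7920›
    decide
  · have := (Nat.prime_dvd_prime_iff_eq hs (by norm_num : Nat.Prime 11)).1 h
    subst this
    revert ‹(11 : ℕ) ^ 2 ∣ 7920›
    decide

theorem multiplier_M11 : HasCyclicSchurMultiplier ↥Spor.M11 1 := by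
  haveI : Finite ↥Spor.M11 := Nat.finite_of_card_ne_zero (by rw [card_M11]; norm_num)
  apply Cfsg.Agent.Helper3.hasCyclicSchurMultiplier_one_of
  intro Γ _ _ σ hσ
  apply Cfsg.Agent.Helper3.Stem.ker_eq_bot_of_forall_good σ hσ
  intro s hs
  by_cases h2 : s = 2
  · subst h2
    refine ⟨U2, index_U2, ?_⟩
    refine Cfsg.Agent.Helper3.Stem.good_of_meta σ hσ.2.1 hσ.1 U2 eA eB eA_mem eB_mem 8 3 0
      (fun u hu => meta_form eA eB 3 eB_conj eB_sq u hu) eB_conj ?_ ?_ ?_
    · rw [zpow_zero]; exact eB_sq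
    · intro k hk
      have := (orderOf_dvd_iff_zpow_eq_one (x := eA) (i := k)).2 hk
      rw [order_eA] at this
      exact_mod_cast this
    · intro k hk
      have h4 : (4 : ℤ) ∣ k := by omega
      obtain ⟨i, hi⟩ := h4
      exact ⟨i, 0, by rw [hi]; ring⟩
  by_cases h3 : s = 3
  · subst h3
    refine ⟨U3, index_U3, ?_⟩
    exact Cfsg.Agent.Helper3.Stem.good_of_rank_two σ hσ.2.1 hσ.1 U3 eC eD eT 3 (by decide)
      (fun u hu => abelian_form eC eD eC_eD u hu) eC_eD eC_pow3 eT_eC eT_eD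
  · exact Cfsg.Agent.Helper3.Stem.exists_good_of_not_sq_dvd σ hσ.2.1 hσ.1 s hs
      (by rw [card_M11]; exact not_sq_dvd hs h2 h3)

end Cfsg.Agent.Helper9.SchurM11
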